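import Cfsg.Agent.H771.KHe
import Cfsg.Agent.H701.ZerosCols
import Cfsg.Agent.H547.SelfCent.Base
import Cfsg.Agent.CpAutHe.Seven
import Cfsg.Agent.Prune
set_option linter.all false

-- part: H153/ZerosHe
section
set_option linter.all false
open scoped Cfsg.Agent.FastGrp

/-!
# Zeros of characters: `He` (S4895, helper153)

`|C(x)| = 17`, `e = 8`, `m = 2`; 18 classes: two classes of elements of orders 2, 6, 14 and the orders
1, 3, 4, 5, 7, 8, 10, 12, 15, 17, 21, 28 (words).
-/

set_option autoImplicit false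

namespace Cfsg.Agent.H153.Zeros

open Subgroup Cfsg Cfsg.Agent.H92.KTools Cfsg.Agent.H771.KTools
open Cfsg.Spor Cfsg.Spor.He Cfsg.Agent.SporadicB.HePerm Cfsg.Agent.FixBN.HeStab Cfsg.Agent.KFacts.He.Lv
open Cfsg.Agent.CpAutHe.Cnt Cfsg.Agent.CpAutHe.Bound

namespace He17

/-- a word of order 17 -/
def W17 : List Gen := [.f, .b, .d, .c]

set_option maxRecDepth 100000

theorem ca : cnt 2058 (tst W17 [] [1, 2, 3, 4] 8) = 17 := by
  rw [Cfsg.Agent.CpAutHe.Cnt.tst_fast]
  decide +kernel

theorem sb : ([8, 77, 69, 867, 189, 183].all fun a => elemN a (nx W17 [] 8)) = true := by decide +kernel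

theorem cb : cnt 2058 (tst W17 [8, 77, 69, 867, 189, 183] [] 0) = 1 := by
  rw [Cfsg.Agent.CpAutHe.Cnt.tst_fast]
  decide +kernel

theorem sc : ([1, 233, 8, 867, 26, 580, 183, 0].all fun a => elemN a (nx W17 (nx W17 [] 8) 0)) = true := by
  decide +kernel

theorem da : cnt 2058 (tst W17 [1] [] 1) = 1 := by
  rw [Cfsg.Agent.CpAutHe.Cnt.tst_fast]
  decide +kernel
theorem db : cnt 2058 (tst W17 [233, 8, 867, 26, 580, 183, 0] [] 32) = 1 := by
  rw [Cfsg.Agent.CpAutHe.Cnt.tst_fast]
  decide +kernel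

theorem card_cent : Nat.card ↥(centralizer ({wd W17} : Set Cfsg.Spor.He)) ≤ 17 := by
  have hC : ∀ c ∈ centralizer ({wd W17} : Set Cfsg.Spor.He), c * wd W17 = wd W17 * c := fun c hc =>
    mem_centralizer_singleton_iff.1 hc
  have hC1 : ∀ c ∈ st (centralizer ({wd W17} : Set Cfsg.Spor.He)) 8, c * wd W17 = wd W17 * c := fun c hc =>
    hC c (mem_st.1 hc).1
  have hF1 : ∀ c ∈ st (centralizer ({wd W17} : Set Cfsg.Spor.He)) 8, ∀ f ∈ nx W17 [] 8, Fx c f := fun c hc =>
    fx_nx (p := 8) (hC1 c hc) (fun _ hf => absurd hf List.not_mem_nil) (mem_st.1 hc).2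
  have h1 : Nat.card ↥(st (centralizer ({wd W17} : Set Cfsg.Spor.He)) 8) ≤ 1 := by
    rw [Subgroup.card_le_one_iff_eq_bot, eq_bot_iff_forall]
    intro c hc
    have e0 : phi c 0 = 0 := fix_of_one (hC1 c hc) (hF1 c hc) 0 _ [] (sub_of_chk sb) cb
    have hF2 : ∀ f ∈ nx W17 (nx W17 [] 8) 0, Fx c f := fx_nx (p := 0) (hC1 c hc) (hF1 c hc) e0
    have hs := sub_of_chk sc
    have k := fix_of_one (hC1 c hc) hF2
    have e1 : phi c 1 = 1 := k 1 [1] [] (fun a ha => hs (by revert ha; revert a; decide)) da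
    have e2 : phi c 32 = 32 := k 32 [233, 8, 867, 26, 580, 183, 0] []
      (fun a ha => hs (by revert ha; revert a; decide)) db
    have e3 : phi c 8 = 8 := (mem_st.1 hc).2
    have e : ∀ i, phi (1 : Cfsg.Spor.He) i = i := fun i => by rw [map_one]; rfl
    apply eq_of_base
    · rw [e0, e]
    · rw [e1, e]
    · rw [e2, e]
    · rw [e3, e]
  exact step (F := []) hC (fun _ _ f hf => absurd hf List.not_mem_nil) 8 [] [1, 2, 3, 4] (fun _ h => h) ca h1

/-- the order of a word: the check -/
def okw (w : List Gen) (m : ℕ) (ps : List ℕ) : Bool :=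
  chkB (pw w m) [] && ps.all fun p => !(chkB (pw w (m / p)) [])

theorem chkB_of_eq {v w : List Gen} (h : wd v = wd w) : chkB v w = true := by
  have key : ∀ i : Fin 2058, act v i = act w i := fun i => by rw [act_eq, act_eq, h]
  unfold chkB
  have h0 := key 0
  have h1 := key 1
  have h2 := key 32
  have h3 := key 8
  have e0 : ((0 : Fin 2058) : ℕ) = 0 := rfl
  have e1 : ((1 : Fin 2058) : ℕ) = 1 := rfl
  have e2 : ((32 : Fin 2058) : ℕ) = 32 := rfl
  have e3 : ((8 : Fin 2058) : ℕ) = 8 := rfl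
  rw [e0] at h0
  rw [e1] at h1
  rw [e2] at h2
  rw [e3] at h3
  rw [h0, h1, h2, h3]
  simp [Nat.beq_refl]

theorem hasOrd_word {w : List Gen} {m : ℕ} (hm : 0 < m) (ps : List ℕ) (hps : ∀ p ∈ m.primeFactors, p ∈ ps)
    (h : okw w m ps = true) : orderOf (wd w) = m := by
  unfold okw at h
  rw [Bool.and_eq_true, List.all_eq_true] at h
  refine orderOf_eq_of_pow_and_pow_div_prime hm ?_ fun p hp hd h1 => ?_
  · have h1 := eq_of_chkB h.1
    rwa [wd_pw, wd_nil] at h1
  · have h2 := h.2 p (hps p (Nat.mem_primeFactors.2 ⟨hp, hd, hm.ne'⟩))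
    rw [chkB_of_eq (by rw [wd_pw, wd_nil, h1])] at h2
    exact absurd h2 (by decide)

theorem o4 : orderOf (wd [.b, .a]) = 4 := hasOrd_word (by norm_num) [2] (by decide +kernel) (by decide +kernel)
theorem o8 : orderOf (wd [.c, .d, .f, .c, .d, .b, .a, .b]) = 8 :=
  hasOrd_word (by norm_num) [2] (by decide +kernel) (by decide +kernel)
theorem o12 : orderOf (wd [.d, .c, .b]) = 12 :=
  hasOrd_word (by norm_num) [2, 3] (by decide +kernel) (by decide +kernel)
theorem o15 : orderOf (wd [.d, .g, .c, .d, .c, .b, .d, .f]) = 15 :=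
  hasOrd_word (by norm_num) [3, 5] (by decide +kernel) (by decide +kernel)
theorem o17 : orderOf (wd W17) = 17 := hasOrd_word (by norm_num) [17] (by decide +kernel) (by decide +kernel)
theorem o21 : orderOf (wd [.e, .c, .d, .b]) = 21 :=
  hasOrd_word (by norm_num) [3, 7] (by decide +kernel) (by decide +kernel)
theorem o28 : orderOf (wd [.d, .c, .f, .b, .g]) = 28 :=
  hasOrd_word (by norm_num) [2, 7] (by decide +kernel) (by decide +kernel)

open Cfsg.Agent.KFacts.He.TwoACent Cfsg.Agent.KFacts.He.TwoAPlane Cfsg.Agent.KFacts.He.TwoA in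
theorem classes : 18 ≤ Nat.card (ConjClasses Spor.He) := by
  have hcard := KFacts.He.Classes.card_he
  have hfin : Finite Spor.He := Nat.finite_of_card_ne_zero (by rw [hcard]; norm_num)
  have hzz : KFacts.He.Bound.z * KFacts.He.Bound.z = 1 := by
    rw [← KFacts.He.Hyp.hyp.map_zz, ← map_mul]
    have : SporadicRecognition.HeldModel.zC * SporadicRecognition.HeldModel.zC = 1 :=
      Subtype.ext (SporadicRecognition.HeldModel.cd_inj (by
        show SporadicRecognition.HeldModel.cd (SporadicRecognition.HeldModel.zz * SporadicRecognition.HeldModel.zz) =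
          SporadicRecognition.HeldModel.cd 1
        rw [SporadicRecognition.HeldModel.cd_mul, SporadicRecognition.HeldModel.cd_one,
          SporadicRecognition.HeldModel.cd_zz]
        decide +kernel))
    rw [this, map_one]
  have hL : ∀ p, p ∣ 20160 → p ∣ Nat.card (centralizer ({gn .a} : Set Spor.He)) := by
    intro p hp
    rw [← ONType.PslCard.card_PSL3] at hp
    exact (hp.trans (Subgroup.card_dvd_of_surjective Th Th_surjective)).trans (Subgroup.card_dvd_of_le two_a.1)
  have ha1 : gn .a ≠ 1 := a_ne_one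
  have hn : ¬ IsConj KFacts.He.Bound.z (gn .a) := by
    intro hc
    have h1 := card_conj hc
    have h2 := hL 5 (by norm_num)
    rw [← h1, KFacts.He.Classes.card_centralizer] at h2
    exact absurd h2 (by norm_num)
  refine le_trans (by decide) (count_two (G := Spor.He) hzz KFacts.He.Hyp.z_ne_one (gn_mul_self .a) ha1 hn {3, 7}
    {1, 3, 5, 7, 10, 17, 4, 8, 12, 15, 21, 28} ?_ ?_ (by decide) (by decide))
  · intro p hp
    rw [KFacts.He.Classes.card_centralizer]
    simp only [Finset.mem_insert, Finset.mem_singleton] at hp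
    rcases hp with rfl | rfl
    · exact ⟨by norm_num, by norm_num, by norm_num, hL _ (by norm_num)⟩
    · exact ⟨by norm_num, by norm_num, by norm_num, hL _ (by norm_num)⟩
  · have hd : ∀ p, p.Prime → p ∣ 4030387200 → HasOrd Spor.He p := fun p hp hd => hasOrd_prime hp (by rwa [hcard])
    intro m hm
    simp only [Finset.mem_insert, Finset.mem_singleton] at hm
    rcases hm with rfl | rfl | rfl | rfl | rfl | rfl | rfl | rfl | rfl | rfl | rfl | rfl
    · exact hasOrd_one _
    · exact hd 3 (by norm_num) (by norm_num)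
    · exact hd 5 (by norm_num) (by norm_num)
    · exact hd 7 (by norm_num) (by norm_num)
    · exact two_mul_prime (gn_mul_self .a) ha1 (p := 5) (by norm_num) (by norm_num) (hL 5 (by norm_num))
    · exact hd 17 (by norm_num) (by norm_num)
    · exact ⟨_, o4⟩
    · exact ⟨_, o8⟩
    · exact ⟨_, o12⟩
    · exact ⟨_, o15⟩
    · exact ⟨_, o21⟩
    · exact ⟨_, o28⟩

theorem card_cent_eq : Nat.card ↥(centralizer ({wd W17} : Set Cfsg.Spor.He)) = 17 := by
  have hcard := KFacts.He.Classes.card_he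
  have hfin : Finite Spor.He := Nat.finite_of_card_ne_zero (by rw [hcard]; norm_num)
  refine le_antisymm card_cent (Nat.le_of_dvd Nat.card_pos ?_)
  exact H547.SelfCent.dvd_cent o17

theorem model : H504.Zeros.Big Spor.He := by
  have hcard := KFacts.He.Classes.card_he
  have hfin : Finite Spor.He := Nat.finite_of_card_ne_zero (by rw [hcard]; norm_num)
  exact H504.Zeros.big_of_isolated (r := 17) (by norm_num) o17 card_cent_eq (n := 237081600) (e := 8) (m := 2)
    (by rw [hcard]) (by norm_num) (by norm_num) (by norm_num) classes (by decide)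

end He17

/-- **`He`** -/
theorem he {S : Type*} [Group S] (h : Cfsg.Spor.IsoHe S) : Cfsg.Agent.H504.Zeros.Big S := by
  have hcard := KFacts.He.Classes.card_he
  have hfin : Finite Spor.He := Nat.finite_of_card_ne_zero (by rw [hcard]; norm_num)
  obtain ⟨e⟩ := h
  have := Finite.of_equiv _ e.symm.toEquiv
  exact H504.Zeros.Big.of_equiv e He17.model

end Cfsg.Agent.H153.Zeros
end

-- part: H713/Two/HeClasses
section
set_option linter.all false
open scoped Cfsg.Agent.FastGrp

/-!
# The Held group has at least 29 conjugacy classes (helper713, for S4897)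

Class functions from the action on 2058 points: the number of fixed points and the number of points `i` such that
`(i, x i)` lies in a given orbital (of valency 136, not self-paired: it distinguishes the elements of orders 7, 14, 28
from their inverses).
-/

set_option autoImplicit false
set_option maxRecDepth 100000

namespace Cfsg.Agent.H713.Two.HeClasses

open Cfsg Cfsg.Spor Cfsg.Spor.He Cfsg.Agent.SporadicB.HePerm
open Cfsg.Agent.FixBN.HeStab Cfsg.Agent.KFacts.He.Lv Cfsg.Agent.CpAutHe.Cnt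
open Cfsg.Agent.H153.Zeros.He17

/-- number of points `i` with `P i (x i)` -/
noncomputable def Nn (P : ℕ → ℕ → Bool) (x : Cfsg.Spor.He) : ℕ := Nat.card {i : Fin 2058 // P i (phi x i : Fin 2058) = true}

theorem Nn_conj {P : ℕ → ℕ → Bool} (hP : ∀ (g : Cfsg.Spor.He) (i j : Fin 2058),
    P (phi g i : Fin 2058) (phi g j : Fin 2058) = P i j) {x y : Cfsg.Spor.He} (h : IsConj x y) : Nn P x = Nn P y := by
  obtain ⟨k, hk⟩ := isConj_iff.1 h
  refine Nat.card_congr (Equiv.subtypeEquiv (phi k) fun i => ?_)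
  rw [← hk, map_mul, map_mul, map_inv, Equiv.Perm.mul_apply, Equiv.Perm.mul_apply, inv_app, hP]

theorem Nn_wd (P : ℕ → ℕ → Bool) (w : List Gen) : Nn P (wd w) = cnt 2058 (fun y => P y (act w y)) := by
  classical
  unfold Nn
  rw [← card_filter, Nat.card_eq_fintype_card, Fintype.card_subtype]
  refine Finset.card_bij (fun i _ => (i : ℕ)) ?_ ?_ ?_
  · intro i hi
    rw [Finset.mem_filter] at hi ⊢
    refine ⟨Finset.mem_range.2 i.2, ?_⟩
    rw [act_eq]
    exact hi.2
  · intro i _ j _ h
    exact Fin.ext h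
  · intro y hy
    rw [Finset.mem_filter, Finset.mem_range] at hy
    refine ⟨⟨y, hy.1⟩, ?_, rfl⟩
    rw [Finset.mem_filter]
    refine ⟨Finset.mem_univ _, ?_⟩
    rw [← act_eq]
    exact hy.2

/-- fixed points -/
def fixP (y z : ℕ) : Bool := Nat.beq z y
/-- the orbital number 3 -/
def colP (y z : ℕ) : Bool := Nat.beq (colr y z) 3

theorem fixP_inv (g : Cfsg.Spor.He) (i j : Fin 2058) :
    fixP (phi g i : Fin 2058) (phi g j : Fin 2058) = fixP i j := by
  unfold fixP
  rw [Bool.eq_iff_iff, Nat.beq_eq, Nat.beq_eq, Fin.val_inj, Fin.val_inj, (phi g).injective.eq_iff]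

theorem colP_inv (g : Cfsg.Spor.He) (i j : Fin 2058) :
    colP (phi g i : Fin 2058) (phi g j : Fin 2058) = colP i j := by
  unfold colP
  rw [colr_inv]

/-- the second invariant of an element of order `n` -/
noncomputable def J (n : ℕ) (x : Cfsg.Spor.He) : ℕ :=
  if n = 28 then Nn colP (x ^ 4) else if n = 14 then Nn colP (x ^ 2) else if n = 7 then Nn colP x
  else if n = 2 ∨ n = 3 ∨ n = 4 ∨ n = 6 ∨ n = 12 then Nn fixP x else 0

theorem isConj_pow' {x y : Cfsg.Spor.He} (h : IsConj x y) (n : ℕ) : IsConj (x ^ n) (y ^ n) := by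
  obtain ⟨c, rfl⟩ := isConj_iff.1 h
  exact isConj_iff.2 ⟨c, by rw [conj_pow]⟩

theorem J_conj (n : ℕ) {x y : Cfsg.Spor.He} (h : IsConj x y) : J n x = J n y := by
  unfold J
  rw [Nn_conj colP_inv h, Nn_conj colP_inv (isConj_pow' h 2), Nn_conj colP_inv (isConj_pow' h 4), Nn_conj fixP_inv h]

/-- order and second invariant -/
noncomputable def inv (x : Cfsg.Spor.He) : ℕ × ℕ := (orderOf x, J (orderOf x) x)

theorem inv_conj {x y : Cfsg.Spor.He} (h : IsConj x y) : inv x = inv y := by
  have h1 : orderOf x = orderOf y := by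
    obtain ⟨c, rfl⟩ := isConj_iff.1 h
    exact ((MulAut.conj c).orderOf_eq x).symm
  unfold inv
  rw [h1, J_conj _ h]

noncomputable def invC : ConjClasses Cfsg.Spor.He → ℕ × ℕ :=
  Quotient.lift inv fun _ _ h => inv_conj h

theorem inv_fix {x : Cfsg.Spor.He} {n k : ℕ} (h : orderOf x = n) (hn : n = 2 ∨ n = 3 ∨ n = 4 ∨ n = 6 ∨ n = 12)
    (hk : Nn fixP x = k) : inv x = (n, k) := by
  subst h
  unfold inv J
  rw [if_neg (by omega), if_neg (by omega), if_neg (by omega), if_pos hn, hk]

theorem inv_ord {x : Cfsg.Spor.He} {n : ℕ} (h : orderOf x = n) (h1 : n ≠ 28) (h2 : n ≠ 14) (h3 : n ≠ 7)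
    (hn : ¬ (n = 2 ∨ n = 3 ∨ n = 4 ∨ n = 6 ∨ n = 12)) : inv x = (n, 0) := by
  subst h
  unfold inv J
  rw [if_neg h1, if_neg h2, if_neg h3, if_neg hn]

theorem inv_28 {x : Cfsg.Spor.He} {k : ℕ} (h : orderOf x = 28) (hk : Nn colP (x ^ 4) = k) : inv x = (28, k) := by
  unfold inv J
  rw [h, if_pos rfl, hk]

theorem inv_14 {x : Cfsg.Spor.He} {k : ℕ} (h : orderOf x = 14) (hk : Nn colP (x ^ 2) = k) : inv x = (14, k) := by
  unfold inv J
  rw [h, if_neg (by norm_num), if_pos rfl, hk]

theorem inv_7 {x : Cfsg.Spor.He} {k : ℕ} (h : orderOf x = 7) (hk : Nn colP x = k) : inv x = (7, k) := by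
  unfold inv J
  rw [h, if_neg (by norm_num), if_neg (by norm_num), if_pos rfl, hk]

/-! ### The elements -/

theorem i1 : inv (wd []) = (1, 0) := inv_ord (by rw [wd_nil, orderOf_one]) (by norm_num) (by norm_num) (by norm_num) (by norm_num)

theorem i2a : inv (wd [.a]) = (2, 154) :=
  inv_fix (hasOrd_word (by norm_num) [2] (by decide +kernel) (by decide +kernel)) (by norm_num) (by rw [Nn_wd, Cfsg.Agent.KFacts.He.Fast.act_fast]; decide +kernel)
theorem i2b : inv (wd [.d]) = (2, 42) :=
  inv_fix (hasOrd_word (by norm_num) [2] (by decide +kernel) (by decide +kernel)) (by norm_num) (by rw [Nn_wd, Cfsg.Agent.KFacts.He.Fast.act_fast]; decide +kernel)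
theorem i3a : inv (wd [.b, .c]) = (3, 0) :=
  inv_fix (hasOrd_word (by norm_num) [3] (by decide +kernel) (by decide +kernel)) (by norm_num) (by rw [Nn_wd, Cfsg.Agent.KFacts.He.Fast.act_fast]; decide +kernel)
theorem i3b : inv (wd [.d, .e]) = (3, 42) :=
  inv_fix (hasOrd_word (by norm_num) [3] (by decide +kernel) (by decide +kernel)) (by norm_num) (by rw [Nn_wd, Cfsg.Agent.KFacts.He.Fast.act_fast]; decide +kernel)
theorem i4a : inv (wd [.b, .f, .g]) = (4, 2) :=
  inv_fix (hasOrd_word (by norm_num) [2] (by decide +kernel) (by decide +kernel)) (by norm_num) (by rw [Nn_wd, Cfsg.Agent.KFacts.He.Fast.act_fast]; decide +kernel)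
theorem i4b : inv (wd [.a, .b]) = (4, 14) :=
  inv_fix (hasOrd_word (by norm_num) [2] (by decide +kernel) (by decide +kernel)) (by norm_num) (by rw [Nn_wd, Cfsg.Agent.KFacts.He.Fast.act_fast]; decide +kernel)
theorem i4c : inv (wd [.f, .g]) = (4, 18) :=
  inv_fix (hasOrd_word (by norm_num) [2] (by decide +kernel) (by decide +kernel)) (by norm_num) (by rw [Nn_wd, Cfsg.Agent.KFacts.He.Fast.act_fast]; decide +kernel)
theorem i5 : inv (wd [.a, .c, .d]) = (5, 0) :=
  inv_ord (hasOrd_word (by norm_num) [5] (by decide +kernel) (by decide +kernel)) (by norm_num) (by norm_num) (by norm_num) (by norm_num)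
theorem i6a : inv (wd [.a, .b, .c]) = (6, 0) :=
  inv_fix (hasOrd_word (by norm_num) [2, 3] (by decide +kernel) (by decide +kernel)) (by norm_num) (by rw [Nn_wd, Cfsg.Agent.KFacts.He.Fast.act_fast]; decide +kernel)
theorem i6b : inv (wd [.a, .d, .e]) = (6, 10) :=
  inv_fix (hasOrd_word (by norm_num) [2, 3] (by decide +kernel) (by decide +kernel)) (by norm_num) (by rw [Nn_wd, Cfsg.Agent.KFacts.He.Fast.act_fast]; decide +kernel)
theorem i8 : inv (wd [.a, .b, .d, .c, .d, .g, .c, .b]) = (8, 0) :=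
  inv_ord (hasOrd_word (by norm_num) [2] (by decide +kernel) (by decide +kernel)) (by norm_num) (by norm_num) (by norm_num) (by norm_num)
theorem i10 : inv (wd [.c, .d]) = (10, 0) :=
  inv_ord (hasOrd_word (by norm_num) [2, 5] (by decide +kernel) (by decide +kernel)) (by norm_num) (by norm_num) (by norm_num) (by norm_num)
theorem i12a : inv (wd [.b, .c, .f, .g]) = (12, 0) :=
  inv_fix (hasOrd_word (by norm_num) [2, 3] (by decide +kernel) (by decide +kernel)) (by norm_num) (by rw [Nn_wd, Cfsg.Agent.KFacts.He.Fast.act_fast]; decide +kernel)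
theorem i12b : inv (wd [.b, .c, .d]) = (12, 2) :=
  inv_fix (hasOrd_word (by norm_num) [2, 3] (by decide +kernel) (by decide +kernel)) (by norm_num) (by rw [Nn_wd, Cfsg.Agent.KFacts.He.Fast.act_fast]; decide +kernel)
theorem i15 : inv (wd [.c, .d, .f, .c, .b, .d, .f]) = (15, 0) :=
  inv_ord (hasOrd_word (by norm_num) [3, 5] (by decide +kernel) (by decide +kernel)) (by norm_num) (by norm_num) (by norm_num) (by norm_num)
theorem i17 : inv (wd W17) = (17, 0) := inv_ord o17 (by norm_num) (by norm_num) (by norm_num) (by norm_num)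
theorem i21 : inv (wd [.a, .b, .c, .d]) = (21, 0) :=
  inv_ord (hasOrd_word (by norm_num) [3, 7] (by decide +kernel) (by decide +kernel)) (by norm_num) (by norm_num) (by norm_num) (by norm_num)

/-- words of order 28, 28, 14, 14 -/
def wA : List Gen := [.a, .b, .d, .f, .g]
def wB : List Gen := [.a, .b, .d, .g, .f]
def wC : List Gen := [.d, .c, .b, .g, .d, .g, .f]
def wD : List Gen := [.f, .c, .d, .f, .g, .b, .d]

theorem oA : orderOf (wd wA) = 28 := hasOrd_word (by norm_num) [2, 7] (by decide +kernel) (by decide +kernel)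
theorem oB : orderOf (wd wB) = 28 := hasOrd_word (by norm_num) [2, 7] (by decide +kernel) (by decide +kernel)
theorem oC : orderOf (wd wC) = 14 := hasOrd_word (by norm_num) [2, 7] (by decide +kernel) (by decide +kernel)
theorem oD : orderOf (wd wD) = 14 := hasOrd_word (by norm_num) [2, 7] (by decide +kernel) (by decide +kernel)

theorem nA : Nn colP (wd wA ^ 4) = 0 := by
  rw [← wd_pw, Nn_wd]
  delta colP
  rw [Cfsg.Agent.KFacts.He.Fast.act_fast, Cfsg.Agent.KFacts.He.Fast.colr_fast]
  decide +kernel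
theorem nB : Nn colP (wd wB ^ 4) = 588 := by
  rw [← wd_pw, Nn_wd]
  delta colP
  rw [Cfsg.Agent.KFacts.He.Fast.act_fast, Cfsg.Agent.KFacts.He.Fast.colr_fast]
  decide +kernel
theorem nC : Nn colP (wd wC ^ 2) = 294 := by
  rw [← wd_pw, Nn_wd]
  delta colP
  rw [Cfsg.Agent.KFacts.He.Fast.act_fast, Cfsg.Agent.KFacts.He.Fast.colr_fast]
  decide +kernel
theorem nD : Nn colP (wd wD ^ 2) = 98 := by
  rw [← wd_pw, Nn_wd]
  delta colP
  rw [Cfsg.Agent.KFacts.He.Fast.act_fast, Cfsg.Agent.KFacts.He.Fast.colr_fast]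
  decide +kernel

theorem i28a : inv (wd wA) = (28, 0) := inv_28 oA nA
theorem i28b : inv (wd wB) = (28, 588) := inv_28 oB nB
theorem i14a : inv (wd wA ^ 2) = (14, 0) :=
  inv_14 (by rw [orderOf_pow, oA]; norm_num) (by rw [← pow_mul]; exact nA)
theorem i14b : inv (wd wB ^ 2) = (14, 588) :=
  inv_14 (by rw [orderOf_pow, oB]; norm_num) (by rw [← pow_mul]; exact nB)
theorem i14c : inv (wd wC) = (14, 294) := inv_14 oC nC
theorem i14d : inv (wd wD) = (14, 98) := inv_14 oD nD
theorem i7a : inv (wd wA ^ 4) = (7, 0) := inv_7 (by rw [orderOf_pow, oA]; norm_num) nA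
theorem i7b : inv (wd wB ^ 4) = (7, 588) := inv_7 (by rw [orderOf_pow, oB]; norm_num) nB
theorem i7c : inv (wd wC ^ 2) = (7, 294) := inv_7 (by rw [orderOf_pow, oC]; norm_num) nC
theorem i7d : inv (wd wD ^ 2) = (7, 98) := inv_7 (by rw [orderOf_pow, oD]; norm_num) nD

/-- 28 elements with different invariants -/
noncomputable def Lx : List Cfsg.Spor.He :=
  [wd W17, wd [], wd [.a], wd [.d], wd [.b, .c], wd [.d, .e], wd [.b, .f, .g], wd [.a, .b], wd [.f, .g], wd [.a, .c, .d],
    wd [.a, .b, .c], wd [.a, .d, .e], wd [.a, .b, .d, .c, .d, .g, .c, .b], wd [.c, .d], wd [.b, .c, .f, .g],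
    wd [.b, .c, .d], wd [.c, .d, .f, .c, .b, .d, .f], wd [.a, .b, .c, .d], wd wA, wd wB, wd wA ^ 2, wd wB ^ 2, wd wC,
    wd wD, wd wA ^ 4, wd wB ^ 4, wd wC ^ 2, wd wD ^ 2]

theorem Lx_inv : Lx.map inv = [(17, 0), (1, 0), (2, 154), (2, 42), (3, 0), (3, 42), (4, 2), (4, 14), (4, 18), (5, 0),
    (6, 0), (6, 10), (8, 0), (10, 0), (12, 0), (12, 2), (15, 0), (21, 0), (28, 0), (28, 588), (14, 0), (14, 588),
    (14, 294), (14, 98), (7, 0), (7, 588), (7, 294), (7, 98)] := by
  simp only [Lx, List.map_cons, List.map_nil, i1, i2a, i2b, i3a, i3b, i4a, i4b, i4c, i5, i6a, i6b, i8, i10, i12a, i12b,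
    i15, i17, i21, i28a, i28b, i14a, i14b, i14c, i14d, i7a, i7b, i7c, i7d]

theorem Lx_nodup : (Lx.map inv).Nodup := by
  rw [Lx_inv]
  decide

/-- **29 classes** from a second class of elements of order 17 -/
theorem classes_of {y : Cfsg.Spor.He} (hy : orderOf y = 17) (hn : ¬ IsConj (wd W17) y) :
    29 ≤ Nat.card (ConjClasses Cfsg.Spor.He) := by
  classical
  have hfin : Finite Cfsg.Spor.He := finite_he
  have := Fintype.ofFinite (ConjClasses Cfsg.Spor.He)
  have h1 : (Lx.map ConjClasses.mk).Nodup := by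
    apply List.Nodup.of_map invC
    rw [List.map_map]
    exact Lx_nodup
  have h2 : ConjClasses.mk y ∉ Lx.map ConjClasses.mk := by
    intro h
    obtain ⟨x, hx, hxy⟩ := List.mem_map.1 h
    have h3 : IsConj x y := ConjClasses.mk_eq_mk_iff_isConj.1 hxy
    have h4 : inv x = (17, 0) := by
      rw [inv_conj h3]
      exact inv_ord hy (by norm_num) (by norm_num) (by norm_num) (by norm_num)
    have h5 : x = wd W17 := by
      have hmem : wd W17 ∈ Lx := List.mem_cons_self
      exact List.inj_on_of_nodup_map Lx_nodup hx hmem (h4.trans i17.symm)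
    exact hn (h5 ▸ h3)
  have h3 : (ConjClasses.mk y :: Lx.map ConjClasses.mk).Nodup := List.nodup_cons.2 ⟨h2, h1⟩
  have h4 := h3.length_le_card
  rw [Nat.card_eq_fintype_card]
  refine le_trans ?_ h4
  rw [List.length_cons, List.length_map]
  decide

end Cfsg.Agent.H713.Two.HeClasses

private theorem dce_e6a95101dc0d : _root_.True := by
  try have : _root_.True := by simp only [_root_.Cfsg.Agent.H713.Two.HeClasses.Lx.eq_1]
  exact _root_.True.intro
end
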